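import Cfsg.Agent.Lib.Schur.Cert.Fi24p3.D

set_option autoImplicit false
set_option maxRecDepth 100000
set_option maxHeartbeats 0
set_option Elab.async false

namespace Cfsg.Agent.Lib.Schur.Cert.Fi24p3

open Cfsg.Agent.Lib.Schur.PcMain Cfsg.Agent.Lib.Schur.PcBase Cfsg.Agent.Lib.Schur.PcCert Cfsg.Agent.Lib.Schur.PcSplit

theorem ck_tg0 : decide ((C.combo tg_0.2.2).filter (fun q => !(tS_0.contains q.1)) = normS [(tg_0.1, (1 : ℤ)), (C.k0, tg_0.2.1)]) = true := by decide +kernel

theorem ck_tg1 : decide ((C.combo tg_1.2.2).filter (fun q => !(tS_1.contains q.1)) = normS [(tg_1.1, (1 : ℤ)), (C.k0, tg_1.2.1)]) = true := by decide +kernel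

theorem ck_tg2 : decide ((C.combo tg_2.2.2).filter (fun q => !(tS_2.contains q.1)) = normS [(tg_2.1, (1 : ℤ)), (C.k0, tg_2.2.1)]) = true := by decide +kernel

theorem ck_tg3 : decide ((C.combo tg_3.2.2).filter (fun q => !(tS_3.contains q.1)) = normS [(tg_3.1, (1 : ℤ)), (C.k0, tg_3.2.1)]) = true := by decide +kernel

theorem ck_tg4 : decide ((C.combo tg_4.2.2).filter (fun q => !(tS_4.contains q.1)) = normS [(tg_4.1, (1 : ℤ)), (C.k0, tg_4.2.1)]) = true := by decide +kernel

theorem ck_tg5 : decide ((C.combo tg_5.2.2).filter (fun q => !(tS_5.contains q.1)) = normS [(tg_5.1, (1 : ℤ)), (C.k0, tg_5.2.1)]) = true := by decide +kernel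

theorem ck_tg6 : decide ((C.combo tg_6.2.2).filter (fun q => !(tS_6.contains q.1)) = normS [(tg_6.1, (1 : ℤ)), (C.k0, tg_6.2.1)]) = true := by decide +kernel

theorem ck_tg7 : decide ((C.combo tg_7.2.2).filter (fun q => !(tS_7.contains q.1)) = normS [(tg_7.1, (1 : ℤ)), (C.k0, tg_7.2.1)]) = true := by decide +kernel

theorem ck_tg8 : decide ((C.combo tg_8.2.2).filter (fun q => !(tS_8.contains q.1)) = normS [(tg_8.1, (1 : ℤ)), (C.k0, tg_8.2.1)]) = true := by decide +kernel

theorem ck_tg9 : decide ((C.combo tg_9.2.2).filter (fun q => !(tS_9.contains q.1)) = normS [(tg_9.1, (1 : ℤ)), (C.k0, tg_9.2.1)]) = true := by decide +kernel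

theorem ck_tg10 : decide ((C.combo tg_10.2.2).filter (fun q => !(tS_10.contains q.1)) = normS [(tg_10.1, (1 : ℤ)), (C.k0, tg_10.2.1)]) = true := by decide +kernel

theorem ck_tg11 : decide ((C.combo tg_11.2.2).filter (fun q => !(tS_11.contains q.1)) = normS [(tg_11.1, (1 : ℤ)), (C.k0, tg_11.2.1)]) = true := by decide +kernel

theorem ck_tg12 : decide ((C.combo tg_12.2.2).filter (fun q => !(tS_12.contains q.1)) = normS [(tg_12.1, (1 : ℤ)), (C.k0, tg_12.2.1)]) = true := by decide +kernel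

theorem ck_tg13 : decide ((C.combo tg_13.2.2).filter (fun q => !(tS_13.contains q.1)) = normS [(tg_13.1, (1 : ℤ)), (C.k0, tg_13.2.1)]) = true := by decide +kernel

theorem ck_tg14 : decide ((C.combo tg_14.2.2).filter (fun q => !(tS_14.contains q.1)) = normS [(tg_14.1, (1 : ℤ)), (C.k0, tg_14.2.1)]) = true := by decide +kernel

theorem ck_tg15 : decide ((C.combo tg_15.2.2).filter (fun q => !(tS_15.contains q.1)) = normS [(tg_15.1, (1 : ℤ)), (C.k0, tg_15.2.1)]) = true := by decide +kernel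

theorem ck_tg16 : decide ((C.combo tg_16.2.2).filter (fun q => !(tS_16.contains q.1)) = normS [(tg_16.1, (1 : ℤ)), (C.k0, tg_16.2.1)]) = true := by decide +kernel

theorem ck_tg17 : decide ((C.combo tg_17.2.2).filter (fun q => !(tS_17.contains q.1)) = normS [(tg_17.1, (1 : ℤ)), (C.k0, tg_17.2.1)]) = true := by decide +kernel

theorem ck_tg18 : decide ((C.combo tg_18.2.2).filter (fun q => !(tS_18.contains q.1)) = normS [(tg_18.1, (1 : ℤ)), (C.k0, tg_18.2.1)]) = true := by decide +kernel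

theorem ck_tg19 : decide ((C.combo tg_19.2.2).filter (fun q => !(tS_19.contains q.1)) = normS [(tg_19.1, (1 : ℤ)), (C.k0, tg_19.2.1)]) = true := by decide +kernel

theorem ck_tg20 : decide ((C.combo tg_20.2.2).filter (fun q => !(tS_20.contains q.1)) = normS [(tg_20.1, (1 : ℤ)), (C.k0, tg_20.2.1)]) = true := by decide +kernel

theorem ck_tg21 : decide ((C.combo tg_21.2.2).filter (fun q => !(tS_21.contains q.1)) = normS [(tg_21.1, (1 : ℤ)), (C.k0, tg_21.2.1)]) = true := by decide +kernel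

theorem ck_tg22 : decide ((C.combo tg_22.2.2).filter (fun q => !(tS_22.contains q.1)) = normS [(tg_22.1, (1 : ℤ)), (C.k0, tg_22.2.1)]) = true := by decide +kernel

theorem ck_tg23 : decide ((C.combo tg_23.2.2).filter (fun q => !(tS_23.contains q.1)) = normS [(tg_23.1, (1 : ℤ)), (C.k0, tg_23.2.1)]) = true := by decide +kernel

theorem ck_tg24 : decide ((C.combo tg_24.2.2).filter (fun q => !(tS_24.contains q.1)) = normS [(tg_24.1, (1 : ℤ)), (C.k0, tg_24.2.1)]) = true := by decide +kernel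

theorem ck_tg25 : decide ((C.combo tg_25.2.2).filter (fun q => !(tS_25.contains q.1)) = normS [(tg_25.1, (1 : ℤ)), (C.k0, tg_25.2.1)]) = true := by decide +kernel

theorem ck_tg26 : decide ((C.combo tg_26.2.2).filter (fun q => !(tS_26.contains q.1)) = normS [(tg_26.1, (1 : ℤ)), (C.k0, tg_26.2.1)]) = true := by decide +kernel

theorem ck_tg27 : decide ((C.combo tg_27.2.2).filter (fun q => !(tS_27.contains q.1)) = normS [(tg_27.1, (1 : ℤ)), (C.k0, tg_27.2.1)]) = true := by decide +kernel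

theorem ck_tg28 : decide ((C.combo tg_28.2.2).filter (fun q => !(tS_28.contains q.1)) = normS [(tg_28.1, (1 : ℤ)), (C.k0, tg_28.2.1)]) = true := by decide +kernel

theorem ck_tg29 : decide ((C.combo tg_29.2.2).filter (fun q => !(tS_29.contains q.1)) = normS [(tg_29.1, (1 : ℤ)), (C.k0, tg_29.2.1)]) = true := by decide +kernel

theorem ck_tg30 : decide ((C.combo tg_30.2.2).filter (fun q => !(tS_30.contains q.1)) = normS [(tg_30.1, (1 : ℤ)), (C.k0, tg_30.2.1)]) = true := by decide +kernel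

theorem ck_tg31 : decide ((C.combo tg_31.2.2).filter (fun q => !(tS_31.contains q.1)) = normS [(tg_31.1, (1 : ℤ)), (C.k0, tg_31.2.1)]) = true := by decide +kernel

theorem ck_tg32 : decide ((C.combo tg_32.2.2).filter (fun q => !(tS_32.contains q.1)) = normS [(tg_32.1, (1 : ℤ)), (C.k0, tg_32.2.1)]) = true := by decide +kernel

theorem ck_tg33 : decide ((C.combo tg_33.2.2).filter (fun q => !(tS_33.contains q.1)) = normS [(tg_33.1, (1 : ℤ)), (C.k0, tg_33.2.1)]) = true := by decide +kernel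

theorem ck_tg34 : decide ((C.combo tg_34.2.2).filter (fun q => !(tS_34.contains q.1)) = normS [(tg_34.1, (1 : ℤ)), (C.k0, tg_34.2.1)]) = true := by decide +kernel

theorem ck_tg35 : decide ((C.combo tg_35.2.2).filter (fun q => !(tS_35.contains q.1)) = normS [(tg_35.1, (1 : ℤ)), (C.k0, tg_35.2.1)]) = true := by decide +kernel

theorem ck_tg36 : decide ((C.combo tg_36.2.2).filter (fun q => !(tS_36.contains q.1)) = normS [(tg_36.1, (1 : ℤ)), (C.k0, tg_36.2.1)]) = true := by decide +kernel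

theorem ck_tg37 : decide ((C.combo tg_37.2.2).filter (fun q => !(tS_37.contains q.1)) = normS [(tg_37.1, (1 : ℤ)), (C.k0, tg_37.2.1)]) = true := by decide +kernel

theorem ck_tg38 : decide ((C.combo tg_38.2.2).filter (fun q => !(tS_38.contains q.1)) = normS [(tg_38.1, (1 : ℤ)), (C.k0, tg_38.2.1)]) = true := by decide +kernel

theorem ck_tg39 : decide ((C.combo tg_39.2.2).filter (fun q => !(tS_39.contains q.1)) = normS [(tg_39.1, (1 : ℤ)), (C.k0, tg_39.2.1)]) = true := by decide +kernel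

theorem ck_tg40 : decide ((C.combo tg_40.2.2).filter (fun q => !(tS_40.contains q.1)) = normS [(tg_40.1, (1 : ℤ)), (C.k0, tg_40.2.1)]) = true := by decide +kernel

theorem ck_tg41 : decide ((C.combo tg_41.2.2).filter (fun q => !(tS_41.contains q.1)) = normS [(tg_41.1, (1 : ℤ)), (C.k0, tg_41.2.1)]) = true := by decide +kernel

theorem ck_tg42 : decide ((C.combo tg_42.2.2).filter (fun q => !(tS_42.contains q.1)) = normS [(tg_42.1, (1 : ℤ)), (C.k0, tg_42.2.1)]) = true := by decide +kernel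

theorem ck_tg43 : decide ((C.combo tg_43.2.2).filter (fun q => !(tS_43.contains q.1)) = normS [(tg_43.1, (1 : ℤ)), (C.k0, tg_43.2.1)]) = true := by decide +kernel


end Cfsg.Agent.Lib.Schur.Cert.Fi24p3
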