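import Cfsg.Agent.Lib.Schur.Cert.Fi24p3.D

set_option autoImplicit false
set_option maxRecDepth 100000
set_option maxHeartbeats 0
set_option Elab.async false

namespace Cfsg.Agent.Lib.Schur.Cert.Fi24p3

open Cfsg.Agent.Lib.Schur.PcMain Cfsg.Agent.Lib.Schur.PcBase Cfsg.Agent.Lib.Schur.PcCert Cfsg.Agent.Lib.Schur.PcSplit

theorem ck_tg44 : decide ((C.combo tg_44.2.2).filter (fun q => !(tS_44.contains q.1)) = normS [(tg_44.1, (1 : ℤ)), (C.k0, tg_44.2.1)]) = true := by decide +kernel

theorem ck_tg45 : decide ((C.combo tg_45.2.2).filter (fun q => !(tS_45.contains q.1)) = normS [(tg_45.1, (1 : ℤ)), (C.k0, tg_45.2.1)]) = true := by decide +kernel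

theorem ck_tg46 : decide ((C.combo tg_46.2.2).filter (fun q => !(tS_46.contains q.1)) = normS [(tg_46.1, (1 : ℤ)), (C.k0, tg_46.2.1)]) = true := by decide +kernel

theorem ck_tg47 : decide ((C.combo tg_47.2.2).filter (fun q => !(tS_47.contains q.1)) = normS [(tg_47.1, (1 : ℤ)), (C.k0, tg_47.2.1)]) = true := by decide +kernel

theorem ck_tg48 : decide ((C.combo tg_48.2.2).filter (fun q => !(tS_48.contains q.1)) = normS [(tg_48.1, (1 : ℤ)), (C.k0, tg_48.2.1)]) = true := by decide +kernel

theorem ck_tg49 : decide ((C.combo tg_49.2.2).filter (fun q => !(tS_49.contains q.1)) = normS [(tg_49.1, (1 : ℤ)), (C.k0, tg_49.2.1)]) = true := by decide +kernel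

theorem ck_tg50 : decide ((C.combo tg_50.2.2).filter (fun q => !(tS_50.contains q.1)) = normS [(tg_50.1, (1 : ℤ)), (C.k0, tg_50.2.1)]) = true := by decide +kernel

theorem ck_tg51 : decide ((C.combo tg_51.2.2).filter (fun q => !(tS_51.contains q.1)) = normS [(tg_51.1, (1 : ℤ)), (C.k0, tg_51.2.1)]) = true := by decide +kernel

theorem ck_tg52 : decide ((C.combo tg_52.2.2).filter (fun q => !(tS_52.contains q.1)) = normS [(tg_52.1, (1 : ℤ)), (C.k0, tg_52.2.1)]) = true := by decide +kernel

theorem ck_tg53 : decide ((C.combo tg_53.2.2).filter (fun q => !(tS_53.contains q.1)) = normS [(tg_53.1, (1 : ℤ)), (C.k0, tg_53.2.1)]) = true := by decide +kernel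

theorem ck_tg54 : decide ((C.combo tg_54.2.2).filter (fun q => !(tS_54.contains q.1)) = normS [(tg_54.1, (1 : ℤ)), (C.k0, tg_54.2.1)]) = true := by decide +kernel

theorem ck_tg55 : decide ((C.combo tg_55.2.2).filter (fun q => !(tS_55.contains q.1)) = normS [(tg_55.1, (1 : ℤ)), (C.k0, tg_55.2.1)]) = true := by decide +kernel

theorem ck_tg56 : decide ((C.combo tg_56.2.2).filter (fun q => !(tS_56.contains q.1)) = normS [(tg_56.1, (1 : ℤ)), (C.k0, tg_56.2.1)]) = true := by decide +kernel

theorem ck_tg57 : decide ((C.combo tg_57.2.2).filter (fun q => !(tS_57.contains q.1)) = normS [(tg_57.1, (1 : ℤ)), (C.k0, tg_57.2.1)]) = true := by decide +kernel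

theorem ck_tg58 : decide ((C.combo tg_58.2.2).filter (fun q => !(tS_58.contains q.1)) = normS [(tg_58.1, (1 : ℤ)), (C.k0, tg_58.2.1)]) = true := by decide +kernel

theorem ck_tg59 : decide ((C.combo tg_59.2.2).filter (fun q => !(tS_59.contains q.1)) = normS [(tg_59.1, (1 : ℤ)), (C.k0, tg_59.2.1)]) = true := by decide +kernel

theorem ck_tg60 : decide ((C.combo tg_60.2.2).filter (fun q => !(tS_60.contains q.1)) = normS [(tg_60.1, (1 : ℤ)), (C.k0, tg_60.2.1)]) = true := by decide +kernel

theorem ck_tg61 : decide ((C.combo tg_61.2.2).filter (fun q => !(tS_61.contains q.1)) = normS [(tg_61.1, (1 : ℤ)), (C.k0, tg_61.2.1)]) = true := by decide +kernel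

theorem ck_tg62 : decide ((C.combo tg_62.2.2).filter (fun q => !(tS_62.contains q.1)) = normS [(tg_62.1, (1 : ℤ)), (C.k0, tg_62.2.1)]) = true := by decide +kernel

theorem ck_tg63 : decide ((C.combo tg_63.2.2).filter (fun q => !(tS_63.contains q.1)) = normS [(tg_63.1, (1 : ℤ)), (C.k0, tg_63.2.1)]) = true := by decide +kernel

theorem ck_tg64 : decide ((C.combo tg_64.2.2).filter (fun q => !(tS_64.contains q.1)) = normS [(tg_64.1, (1 : ℤ)), (C.k0, tg_64.2.1)]) = true := by decide +kernel

theorem ck_tg65 : decide ((C.combo tg_65.2.2).filter (fun q => !(tS_65.contains q.1)) = normS [(tg_65.1, (1 : ℤ)), (C.k0, tg_65.2.1)]) = true := by decide +kernel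

theorem ck_tg66 : decide ((C.combo tg_66.2.2).filter (fun q => !(tS_66.contains q.1)) = normS [(tg_66.1, (1 : ℤ)), (C.k0, tg_66.2.1)]) = true := by decide +kernel

theorem ck_tg67 : decide ((C.combo tg_67.2.2).filter (fun q => !(tS_67.contains q.1)) = normS [(tg_67.1, (1 : ℤ)), (C.k0, tg_67.2.1)]) = true := by decide +kernel

theorem ck_tg68 : decide ((C.combo tg_68.2.2).filter (fun q => !(tS_68.contains q.1)) = normS [(tg_68.1, (1 : ℤ)), (C.k0, tg_68.2.1)]) = true := by decide +kernel

theorem ck_tg69 : decide ((C.combo tg_69.2.2).filter (fun q => !(tS_69.contains q.1)) = normS [(tg_69.1, (1 : ℤ)), (C.k0, tg_69.2.1)]) = true := by decide +kernel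

theorem ck_tg70 : decide ((C.combo tg_70.2.2).filter (fun q => !(tS_70.contains q.1)) = normS [(tg_70.1, (1 : ℤ)), (C.k0, tg_70.2.1)]) = true := by decide +kernel

theorem ck_tg71 : decide ((C.combo tg_71.2.2).filter (fun q => !(tS_71.contains q.1)) = normS [(tg_71.1, (1 : ℤ)), (C.k0, tg_71.2.1)]) = true := by decide +kernel

theorem ck_tg72 : decide ((C.combo tg_72.2.2).filter (fun q => !(tS_72.contains q.1)) = normS [(tg_72.1, (1 : ℤ)), (C.k0, tg_72.2.1)]) = true := by decide +kernel

theorem ck_tg73 : decide ((C.combo tg_73.2.2).filter (fun q => !(tS_73.contains q.1)) = normS [(tg_73.1, (1 : ℤ)), (C.k0, tg_73.2.1)]) = true := by decide +kernel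

theorem ck_tg74 : decide ((C.combo tg_74.2.2).filter (fun q => !(tS_74.contains q.1)) = normS [(tg_74.1, (1 : ℤ)), (C.k0, tg_74.2.1)]) = true := by decide +kernel

theorem ck_tg75 : decide ((C.combo tg_75.2.2).filter (fun q => !(tS_75.contains q.1)) = normS [(tg_75.1, (1 : ℤ)), (C.k0, tg_75.2.1)]) = true := by decide +kernel

theorem ck_tg76 : decide ((C.combo tg_76.2.2).filter (fun q => !(tS_76.contains q.1)) = normS [(tg_76.1, (1 : ℤ)), (C.k0, tg_76.2.1)]) = true := by decide +kernel

theorem ck_tg77 : decide ((C.combo tg_77.2.2).filter (fun q => !(tS_77.contains q.1)) = normS [(tg_77.1, (1 : ℤ)), (C.k0, tg_77.2.1)]) = true := by decide +kernel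

theorem ck_tg78 : decide ((C.combo tg_78.2.2).filter (fun q => !(tS_78.contains q.1)) = normS [(tg_78.1, (1 : ℤ)), (C.k0, tg_78.2.1)]) = true := by decide +kernel

theorem ck_tg79 : decide ((C.combo tg_79.2.2).filter (fun q => !(tS_79.contains q.1)) = normS [(tg_79.1, (1 : ℤ)), (C.k0, tg_79.2.1)]) = true := by decide +kernel

theorem ck_tg80 : decide ((C.combo tg_80.2.2).filter (fun q => !(tS_80.contains q.1)) = normS [(tg_80.1, (1 : ℤ)), (C.k0, tg_80.2.1)]) = true := by decide +kernel

theorem ck_tg81 : decide ((C.combo tg_81.2.2).filter (fun q => !(tS_81.contains q.1)) = normS [(tg_81.1, (1 : ℤ)), (C.k0, tg_81.2.1)]) = true := by decide +kernel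

theorem ck_tg82 : decide ((C.combo tg_82.2.2).filter (fun q => !(tS_82.contains q.1)) = normS [(tg_82.1, (1 : ℤ)), (C.k0, tg_82.2.1)]) = true := by decide +kernel

theorem ck_tg83 : decide ((C.combo tg_83.2.2).filter (fun q => !(tS_83.contains q.1)) = normS [(tg_83.1, (1 : ℤ)), (C.k0, tg_83.2.1)]) = true := by decide +kernel

theorem ck_tg84 : decide ((C.combo tg_84.2.2).filter (fun q => !(tS_84.contains q.1)) = normS [(tg_84.1, (1 : ℤ)), (C.k0, tg_84.2.1)]) = true := by decide +kernel

theorem ck_tg85 : decide ((C.combo tg_85.2.2).filter (fun q => !(tS_85.contains q.1)) = normS [(tg_85.1, (1 : ℤ)), (C.k0, tg_85.2.1)]) = true := by decide +kernel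

theorem ck_tg86 : decide ((C.combo tg_86.2.2).filter (fun q => !(tS_86.contains q.1)) = normS [(tg_86.1, (1 : ℤ)), (C.k0, tg_86.2.1)]) = true := by decide +kernel

theorem ck_tg87 : decide ((C.combo tg_87.2.2).filter (fun q => !(tS_87.contains q.1)) = normS [(tg_87.1, (1 : ℤ)), (C.k0, tg_87.2.1)]) = true := by decide +kernel


end Cfsg.Agent.Lib.Schur.Cert.Fi24p3
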