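import Cfsg.Agent.Lib.Schur.Cert.Fi24p3.D

set_option autoImplicit false
set_option maxRecDepth 100000
set_option maxHeartbeats 0
set_option Elab.async false

namespace Cfsg.Agent.Lib.Schur.Cert.Fi24p3

open Cfsg.Agent.Lib.Schur.PcMain Cfsg.Agent.Lib.Schur.PcBase Cfsg.Agent.Lib.Schur.PcCert Cfsg.Agent.Lib.Schur.PcSplit

theorem ck_tg88 : decide ((C.combo tg_88.2.2).filter (fun q => !(tS_88.contains q.1)) = normS [(tg_88.1, (1 : ℤ)), (C.k0, tg_88.2.1)]) = true := by decide +kernel

theorem ck_tg89 : decide ((C.combo tg_89.2.2).filter (fun q => !(tS_89.contains q.1)) = normS [(tg_89.1, (1 : ℤ)), (C.k0, tg_89.2.1)]) = true := by decide +kernel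

theorem ck_tg90 : decide ((C.combo tg_90.2.2).filter (fun q => !(tS_90.contains q.1)) = normS [(tg_90.1, (1 : ℤ)), (C.k0, tg_90.2.1)]) = true := by decide +kernel

theorem ck_tg91 : decide ((C.combo tg_91.2.2).filter (fun q => !(tS_91.contains q.1)) = normS [(tg_91.1, (1 : ℤ)), (C.k0, tg_91.2.1)]) = true := by decide +kernel

theorem ck_tg92 : decide ((C.combo tg_92.2.2).filter (fun q => !(tS_92.contains q.1)) = normS [(tg_92.1, (1 : ℤ)), (C.k0, tg_92.2.1)]) = true := by decide +kernel

theorem ck_tg93 : decide ((C.combo tg_93.2.2).filter (fun q => !(tS_93.contains q.1)) = normS [(tg_93.1, (1 : ℤ)), (C.k0, tg_93.2.1)]) = true := by decide +kernel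

theorem ck_tg94 : decide ((C.combo tg_94.2.2).filter (fun q => !(tS_94.contains q.1)) = normS [(tg_94.1, (1 : ℤ)), (C.k0, tg_94.2.1)]) = true := by decide +kernel

theorem ck_tg95 : decide ((C.combo tg_95.2.2).filter (fun q => !(tS_95.contains q.1)) = normS [(tg_95.1, (1 : ℤ)), (C.k0, tg_95.2.1)]) = true := by decide +kernel

theorem ck_tg96 : decide ((C.combo tg_96.2.2).filter (fun q => !(tS_96.contains q.1)) = normS [(tg_96.1, (1 : ℤ)), (C.k0, tg_96.2.1)]) = true := by decide +kernel

theorem ck_tg97 : decide ((C.combo tg_97.2.2).filter (fun q => !(tS_97.contains q.1)) = normS [(tg_97.1, (1 : ℤ)), (C.k0, tg_97.2.1)]) = true := by decide +kernel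

theorem ck_tg98 : decide ((C.combo tg_98.2.2).filter (fun q => !(tS_98.contains q.1)) = normS [(tg_98.1, (1 : ℤ)), (C.k0, tg_98.2.1)]) = true := by decide +kernel

theorem ck_tg99 : decide ((C.combo tg_99.2.2).filter (fun q => !(tS_99.contains q.1)) = normS [(tg_99.1, (1 : ℤ)), (C.k0, tg_99.2.1)]) = true := by decide +kernel

theorem ck_tg100 : decide ((C.combo tg_100.2.2).filter (fun q => !(tS_100.contains q.1)) = normS [(tg_100.1, (1 : ℤ)), (C.k0, tg_100.2.1)]) = true := by decide +kernel

theorem ck_tg101 : decide ((C.combo tg_101.2.2).filter (fun q => !(tS_101.contains q.1)) = normS [(tg_101.1, (1 : ℤ)), (C.k0, tg_101.2.1)]) = true := by decide +kernel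

theorem ck_tg102 : decide ((C.combo tg_102.2.2).filter (fun q => !(tS_102.contains q.1)) = normS [(tg_102.1, (1 : ℤ)), (C.k0, tg_102.2.1)]) = true := by decide +kernel

theorem ck_tg103 : decide ((C.combo tg_103.2.2).filter (fun q => !(tS_103.contains q.1)) = normS [(tg_103.1, (1 : ℤ)), (C.k0, tg_103.2.1)]) = true := by decide +kernel

theorem ck_tg104 : decide ((C.combo tg_104.2.2).filter (fun q => !(tS_104.contains q.1)) = normS [(tg_104.1, (1 : ℤ)), (C.k0, tg_104.2.1)]) = true := by decide +kernel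

theorem ck_tg105 : decide ((C.combo tg_105.2.2).filter (fun q => !(tS_105.contains q.1)) = normS [(tg_105.1, (1 : ℤ)), (C.k0, tg_105.2.1)]) = true := by decide +kernel

theorem ck_tg106 : decide ((C.combo tg_106.2.2).filter (fun q => !(tS_106.contains q.1)) = normS [(tg_106.1, (1 : ℤ)), (C.k0, tg_106.2.1)]) = true := by decide +kernel

theorem ck_tg107 : decide ((C.combo tg_107.2.2).filter (fun q => !(tS_107.contains q.1)) = normS [(tg_107.1, (1 : ℤ)), (C.k0, tg_107.2.1)]) = true := by decide +kernel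

theorem ck_tg108 : decide ((C.combo tg_108.2.2).filter (fun q => !(tS_108.contains q.1)) = normS [(tg_108.1, (1 : ℤ)), (C.k0, tg_108.2.1)]) = true := by decide +kernel

theorem ck_tg109 : decide ((C.combo tg_109.2.2).filter (fun q => !(tS_109.contains q.1)) = normS [(tg_109.1, (1 : ℤ)), (C.k0, tg_109.2.1)]) = true := by decide +kernel

theorem ck_tg110 : decide ((C.combo tg_110.2.2).filter (fun q => !(tS_110.contains q.1)) = normS [(tg_110.1, (1 : ℤ)), (C.k0, tg_110.2.1)]) = true := by decide +kernel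

theorem ck_tg111 : decide ((C.combo tg_111.2.2).filter (fun q => !(tS_111.contains q.1)) = normS [(tg_111.1, (1 : ℤ)), (C.k0, tg_111.2.1)]) = true := by decide +kernel

theorem ck_tg112 : decide ((C.combo tg_112.2.2).filter (fun q => !(tS_112.contains q.1)) = normS [(tg_112.1, (1 : ℤ)), (C.k0, tg_112.2.1)]) = true := by decide +kernel

theorem ck_tg113 : decide ((C.combo tg_113.2.2).filter (fun q => !(tS_113.contains q.1)) = normS [(tg_113.1, (1 : ℤ)), (C.k0, tg_113.2.1)]) = true := by decide +kernel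

theorem ck_tg114 : decide ((C.combo tg_114.2.2).filter (fun q => !(tS_114.contains q.1)) = normS [(tg_114.1, (1 : ℤ)), (C.k0, tg_114.2.1)]) = true := by decide +kernel

theorem ck_tg115 : decide ((C.combo tg_115.2.2).filter (fun q => !(tS_115.contains q.1)) = normS [(tg_115.1, (1 : ℤ)), (C.k0, tg_115.2.1)]) = true := by decide +kernel

theorem ck_tg116 : decide ((C.combo tg_116.2.2).filter (fun q => !(tS_116.contains q.1)) = normS [(tg_116.1, (1 : ℤ)), (C.k0, tg_116.2.1)]) = true := by decide +kernel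

theorem ck_tg117 : decide ((C.combo tg_117.2.2).filter (fun q => !(tS_117.contains q.1)) = normS [(tg_117.1, (1 : ℤ)), (C.k0, tg_117.2.1)]) = true := by decide +kernel

theorem ck_tg118 : decide ((C.combo tg_118.2.2).filter (fun q => !(tS_118.contains q.1)) = normS [(tg_118.1, (1 : ℤ)), (C.k0, tg_118.2.1)]) = true := by decide +kernel

theorem ck_tg119 : decide ((C.combo tg_119.2.2).filter (fun q => !(tS_119.contains q.1)) = normS [(tg_119.1, (1 : ℤ)), (C.k0, tg_119.2.1)]) = true := by decide +kernel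

theorem ck_tg120 : decide ((C.combo tg_120.2.2).filter (fun q => !(tS_120.contains q.1)) = normS [(tg_120.1, (1 : ℤ)), (C.k0, tg_120.2.1)]) = true := by decide +kernel

theorem ck_tg121 : decide ((C.combo tg_121.2.2).filter (fun q => !(tS_121.contains q.1)) = normS [(tg_121.1, (1 : ℤ)), (C.k0, tg_121.2.1)]) = true := by decide +kernel

theorem ck_tg122 : decide ((C.combo tg_122.2.2).filter (fun q => !(tS_122.contains q.1)) = normS [(tg_122.1, (1 : ℤ)), (C.k0, tg_122.2.1)]) = true := by decide +kernel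

theorem ck_tg123 : decide ((C.combo tg_123.2.2).filter (fun q => !(tS_123.contains q.1)) = normS [(tg_123.1, (1 : ℤ)), (C.k0, tg_123.2.1)]) = true := by decide +kernel

theorem ck_tg124 : decide ((C.combo tg_124.2.2).filter (fun q => !(tS_124.contains q.1)) = normS [(tg_124.1, (1 : ℤ)), (C.k0, tg_124.2.1)]) = true := by decide +kernel

theorem ck_tg125 : decide ((C.combo tg_125.2.2).filter (fun q => !(tS_125.contains q.1)) = normS [(tg_125.1, (1 : ℤ)), (C.k0, tg_125.2.1)]) = true := by decide +kernel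

theorem ck_tg126 : decide ((C.combo tg_126.2.2).filter (fun q => !(tS_126.contains q.1)) = normS [(tg_126.1, (1 : ℤ)), (C.k0, tg_126.2.1)]) = true := by decide +kernel

theorem ck_tg127 : decide ((C.combo tg_127.2.2).filter (fun q => !(tS_127.contains q.1)) = normS [(tg_127.1, (1 : ℤ)), (C.k0, tg_127.2.1)]) = true := by decide +kernel

theorem ck_tg128 : decide ((C.combo tg_128.2.2).filter (fun q => !(tS_128.contains q.1)) = normS [(tg_128.1, (1 : ℤ)), (C.k0, tg_128.2.1)]) = true := by decide +kernel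

theorem ck_tg129 : decide ((C.combo tg_129.2.2).filter (fun q => !(tS_129.contains q.1)) = normS [(tg_129.1, (1 : ℤ)), (C.k0, tg_129.2.1)]) = true := by decide +kernel

theorem ck_tg130 : decide ((C.combo tg_130.2.2).filter (fun q => !(tS_130.contains q.1)) = normS [(tg_130.1, (1 : ℤ)), (C.k0, tg_130.2.1)]) = true := by decide +kernel

theorem ck_tg131 : decide ((C.combo tg_131.2.2).filter (fun q => !(tS_131.contains q.1)) = normS [(tg_131.1, (1 : ℤ)), (C.k0, tg_131.2.1)]) = true := by decide +kernel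


end Cfsg.Agent.Lib.Schur.Cert.Fi24p3
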